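import Groth.Agent.CAlgBasics.FlatAux
import Groth.Prelude.Def_EtMil

/-! The short exact sequence of a fibre square of algebras. -/

universe u
open TensorProduct

namespace Groth.Agent.PinchTensor

variable (R B' B A' A : Type u) [CommRing R] [CommRing B'] [CommRing B] [CommRing A'] [CommRing A]
    [Algebra B' B] [Algebra B' A'] [Algebra B A] [Algebra A' A] [Algebra B' A]
    [IsScalarTower B' B A] [IsScalarTower B' A' A]
    [Algebra R B'] [Algebra R B] [Algebra R A'] [Algebra R A]
    [IsScalarTower R B' B] [IsScalarTower R B' A'] [IsScalarTower R B A] [IsScalarTower R A' A]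

/-- `B' → B × A'`. -/
noncomputable def pair : B' →ₗ[R] B × A' :=
  (IsScalarTower.toAlgHom R B' B).toLinearMap.prod (IsScalarTower.toAlgHom R B' A').toLinearMap

/-- `B × A' → A`, the difference. -/
noncomputable def diff : B × A' →ₗ[R] A :=
  (IsScalarTower.toAlgHom R B A).toLinearMap ∘ₗ LinearMap.fst R B A'
    - (IsScalarTower.toAlgHom R A' A).toLinearMap ∘ₗ LinearMap.snd R B A'

variable {R B' B A' A}

theorem pair_injective (hsq : EtMil.IsFibreSquare B' B A' A) : Function.Injective (pair R B' B A') := by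
  intro x y h
  simp only [pair, LinearMap.prod_apply, Function.prod, Prod.mk.injEq] at h
  obtain ⟨b', -, hu⟩ := hsq.2 (algebraMap B' B x) (algebraMap B' A' x)
    (by rw [← IsScalarTower.algebraMap_apply, ← IsScalarTower.algebraMap_apply])
  exact (hu x ⟨rfl, rfl⟩).trans (hu y ⟨h.1.symm, h.2.symm⟩).symm

theorem exact (hsq : EtMil.IsFibreSquare B' B A' A) : Function.Exact (pair R B' B A') (diff R B A' A) := by
  intro z
  simp only [diff, pair, LinearMap.sub_apply, LinearMap.comp_apply, LinearMap.fst_apply, LinearMap.snd_apply,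
    sub_eq_zero, Set.mem_range, LinearMap.prod_apply, Function.prod, AlgHom.toLinearMap_apply, IsScalarTower.coe_toAlgHom',
    Prod.ext_iff]
  constructor
  · intro h
    obtain ⟨b', hb, -⟩ := hsq.2 z.1 z.2 h
    exact ⟨b', hb⟩
  · rintro ⟨b', h1, h2⟩
    rw [← h1, ← h2, ← IsScalarTower.algebraMap_apply, ← IsScalarTower.algebraMap_apply]

theorem diff_surjective (hsq : EtMil.IsFibreSquare B' B A' A) : Function.Surjective (diff R B A' A) := by
  intro a
  obtain ⟨a', ha⟩ := hsq.1 (-a)
  exact ⟨(0, a'), by simp [diff, ha]⟩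

end Groth.Agent.PinchTensor
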